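import Groth.Agent.H12AlgSp.SpPush.Core

/-!
Cartesian squares between quotients, and pushouts of spaces read on an atlas.
-/

set_option autoImplicit false
set_option backward.isDefEq.respectTransparency false
set_option linter.style.haveILetI false

universe u

open CategoryTheory CategoryTheory.Limits AlgebraicGeometry Opposite
open AlgSp Groth.Agent.H13AlgSp

namespace Groth.Agent.H12AlgSp.ThickPush

variable {S : Scheme.{u}}

/-- Kernel pairs of a cartesian pair of charts form cartesian squares. -/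
theorem exists_kernelPair_square {X X' : Sp S} {t : X ⟶ X'} {U U' R R' : Over S} {i : U ⟶ U'}
    {e : (yon S).obj U ⟶ X} {e' : (yon S).obj U' ⟶ X'} (sq : IsPullback ((yon S).map i) e e' t)
    {tU sU : R ⟶ U} (hR : IsPullback ((yon S).map tU) ((yon S).map sU) e e)
    {t' s' : R' ⟶ U'} (hR' : IsPullback ((yon S).map t') ((yon S).map s') e' e') :
    ∃ iR : R ⟶ R', IsPullback iR tU t' i ∧ IsPullback iR sU s' i := by
  obtain ⟨l, hl₁, hl₂⟩ := hR'.exists_lift ((yon S).map (tU ≫ i)) ((yon S).map (sU ≫ i)) (by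
    rw [Functor.map_comp, Functor.map_comp, Category.assoc, Category.assoc, sq.w, ← Category.assoc, hR.w,
      Category.assoc])
  obtain ⟨iR, rfl⟩ := (yon S).map_surjective l
  rw [← Functor.map_comp] at hl₁ hl₂
  refine ⟨iR, IsPullback.of_map (yon S) ((yon S).map_injective hl₁) ?_,
    IsPullback.of_map (yon S) ((yon S).map_injective hl₂) ?_⟩
  · refine IsPullback.of_right (h₁₂ := (yon S).map s') (v₁₃ := e') (h₂₂ := e') ?_
      (by rw [← Functor.map_comp, ← Functor.map_comp, (yon S).map_injective hl₁]) hR'.flip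
    rw [← Functor.map_comp, (yon S).map_injective hl₂, Functor.map_comp, sq.w]
    exact hR.flip.paste_horiz sq
  · refine IsPullback.of_right (h₁₂ := (yon S).map t') (v₁₃ := e') (h₂₂ := e') ?_
      (by rw [← Functor.map_comp, ← Functor.map_comp, (yon S).map_injective hl₂]) hR'
    rw [← Functor.map_comp, (yon S).map_injective hl₁, Functor.map_comp, sq.w]
    exact hR.paste_horiz sq

/-- A map of quotients is cartesian if the map of relations is. -/
theorem isPullback_of_relPullback {Y Y' : Sp S} {h : Y ⟶ Y'} {V V' R R' : Over S} {g : V ⟶ V'}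
    {p : (yon S).obj V ⟶ Y} (hp : RepWith @Etale p) (hps : RepWith @Surjective p)
    {q : (yon S).obj V' ⟶ Y'} {t s : R ⟶ V} {t' s' : R' ⟶ V'}
    (hR : IsPullback ((yon S).map t) ((yon S).map s) p p)
    (hR' : IsPullback ((yon S).map t') ((yon S).map s') q q) {gR : R ⟶ R'}
    (hs : gR ≫ s' = s ≫ g) (ht : IsPullback gR t t' g) (w : (yon S).map g ≫ q = p ≫ h) :
    IsPullback ((yon S).map g) p q h := by
  let m := pullback.lift ((yon S).map g) p w
  have hm₁ : m ≫ pullback.fst q h = (yon S).map g := pullback.lift_fst _ _ _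
  have hm₂ : m ≫ pullback.snd q h = p := pullback.lift_snd _ _ _
  haveI : Mono m := H12AlgSp.mono_of_yon fun T x y e => by
    obtain ⟨x, rfl⟩ := (yon S).map_surjective x
    obtain ⟨y, rfl⟩ := (yon S).map_surjective y
    have e1 := e =≫ pullback.fst q h
    have e2 := e =≫ pullback.snd q h
    rw [Category.assoc, Category.assoc, hm₁, ← Functor.map_comp, ← Functor.map_comp] at e1
    rw [Category.assoc, Category.assoc, hm₂] at e2
    have e1' : x ≫ g = y ≫ g := (yon S).map_injective e1
    obtain ⟨r, hr₁, hr₂⟩ := hR.exists_lift _ _ e2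
    obtain ⟨r, rfl⟩ := (yon S).map_surjective r
    obtain ⟨r₀, hr₃, hr₄⟩ := hR.exists_lift ((yon S).map x) ((yon S).map x) rfl
    obtain ⟨r₀, rfl⟩ := (yon S).map_surjective r₀
    rw [← Functor.map_comp] at hr₁ hr₂ hr₃ hr₄
    have : r = r₀ := ht.hom_ext ((yon S).map_injective (hR'.hom_ext
        (by simp only [← Functor.map_comp, Category.assoc, ht.w]
            rw [← Category.assoc, ← Category.assoc, (yon S).map_injective hr₁, (yon S).map_injective hr₃])
        (by simp only [← Functor.map_comp, Category.assoc, hs]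
            rw [← Category.assoc, ← Category.assoc, (yon S).map_injective hr₂, (yon S).map_injective hr₄, e1'])))
      (((yon S).map_injective hr₁).trans ((yon S).map_injective hr₃).symm)
    rw [← hr₂, this, hr₄]
  haveI : IsIso m := isIso_of_mono_of_local_lifts m fun T y => by
    obtain ⟨W, c, k, sqW⟩ := hp.rep (y ≫ pullback.snd q h)
    have hce : Etale c.left := hp.property _ k c sqW
    have hcs : Surjective c.left := hps.property _ k c sqW
    refine ⟨PUnit, fun _ => W, fun _ => c, ofArrows_mem_J _ (fun _ => inferInstance) (fun _ => inferInstance)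
      (fun z => ⟨⟨⟩, c.left.surjective z⟩), fun _ => ?_⟩
    obtain ⟨k, rfl⟩ := (yon S).map_surjective k
    obtain ⟨v', hv'⟩ := (yon S).map_surjective ((yon S).map c ≫ y ≫ pullback.fst q h)
    obtain ⟨r', hr₁, hr₂⟩ := hR'.exists_lift ((yon S).map (k ≫ g)) ((yon S).map v') (by
      rw [hv', Functor.map_comp, Category.assoc, w, ← Category.assoc, sqW.w]
      simp only [Category.assoc, pullback.condition])
    obtain ⟨r', rfl⟩ := (yon S).map_surjective r'
    rw [← Functor.map_comp] at hr₁ hr₂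
    obtain ⟨r, hr₃, hr₄⟩ := ht.exists_lift r' k ((yon S).map_injective hr₁)
    refine ⟨(yon S).map (r ≫ s), ?_⟩
    apply pullback.hom_ext
    · rw [Category.assoc, hm₁, ← Functor.map_comp, Category.assoc, ← hs, ← Category.assoc, hr₃]
      simpa using hr₂.trans hv'
    · rw [Category.assoc, hm₂, Functor.map_comp, Category.assoc, ← hR.w, ← Category.assoc, ← Functor.map_comp,
        hr₄, sqW.w, Category.assoc]
  exact IsPullback.of_iso_pullback ⟨w⟩ (asIso m) (by simp [hm₁]) (by simp [hm₂])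

variable {A B C W : Sp S} {cA : C ⟶ A} {cB : C ⟶ B} {aA : A ⟶ W} {aB : B ⟶ W}
  {PA PB PC P : Over S} {i : PC ⟶ PA} {j : PC ⟶ PB} {a : PA ⟶ P} {b : PB ⟶ P}
  {qA : (yon S).obj PA ⟶ A} {qB : (yon S).obj PB ⟶ B} {qC : (yon S).obj PC ⟶ C} {q : (yon S).obj P ⟶ W}

/-- An etale atlas which is a pushout of its restrictions makes the space a pushout. -/
theorem existsUnique_desc (hq : RepWith @Etale q) (hqs : RepWith @Surjective q)
    (sA : IsPullback ((yon S).map a) qA q aA) (sB : IsPullback ((yon S).map b) qB q aB)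
    (eA : qC ≫ cA = (yon S).map i ≫ qA) (eB : qC ≫ cB = (yon S).map j ≫ qB)
    (hP : IsPushout i.left j.left a.left b.left) (hbc : SpPush.FlatStable a.left b.left)
    (hlift : SpPush.EtaleLift i.left j.left a.left b.left)
    {T : Sp S} (hT : IsAlgSpace T) {U₁ : Over S} {p₁ : (yon S).obj U₁ ⟶ T} (hp₁ : RepWith @Etale p₁)
    (hp₁s : RepWith @Surjective p₁) (hU₁ : IsSeparated U₁.hom)
    (gA : A ⟶ T) (gB : B ⟶ T) (hg : cA ≫ gA = cB ≫ gB) : ∃! m : W ⟶ T, aA ≫ m = gA ∧ aB ≫ m = gB := by
  obtain ⟨m₀, hm₁, hm₂⟩ := SpPush.exists_desc hT hP hbc hlift hp₁ hp₁s hU₁ (qA ≫ gA) (qB ≫ gB)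
    (by rw [← Category.assoc, ← Category.assoc, ← eA, ← eB, Category.assoc, Category.assoc, hg])
  haveI := epi_of_etale_surjective hq hqs
  have ptA : ∀ (Q : Over S) (x : Q ⟶ P) (y : (yon S).obj Q ⟶ A), (yon S).map x ≫ q = y ≫ aA →
      (yon S).map x ≫ m₀ = y ≫ gA := fun Q x y e => by
    obtain ⟨l, hl₁, hl₂⟩ := sA.exists_lift _ _ e
    rw [← hl₁, Category.assoc, hm₁, ← Category.assoc, hl₂]
  have ptB : ∀ (Q : Over S) (x : Q ⟶ P) (y : (yon S).obj Q ⟶ B), (yon S).map x ≫ q = y ≫ aB →
      (yon S).map x ≫ m₀ = y ≫ gB := fun Q x y e => by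
    obtain ⟨l, hl₁, hl₂⟩ := sB.exists_lift _ _ e
    rw [← hl₁, Category.assoc, hm₂, ← Category.assoc, hl₂]
  obtain ⟨R, s, t, hs, ht, sqR⟩ := exists_kernelPair hq
  have hag : (yon S).map t ≫ m₀ = (yon S).map s ≫ m₀ := by
    refine SpPush.hom_ext hT hbc s inferInstance (fun Q l x e => ?_) (fun Q l y e => ?_)
    · have h1 : (yon S).map (l ≫ s) ≫ q = ((yon S).map x ≫ qA) ≫ aA := by
        rw [e, Functor.map_comp, Category.assoc, sA.w, Category.assoc]
      have h2 : (yon S).map (l ≫ t) ≫ q = ((yon S).map x ≫ qA) ≫ aA := by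
        rw [← h1, Functor.map_comp, Functor.map_comp, Category.assoc, Category.assoc, sqR.w]
      simp only [← Category.assoc, ← Functor.map_comp, ptA _ _ _ h1, ptA _ _ _ h2]
    · have h1 : (yon S).map (l ≫ s) ≫ q = ((yon S).map y ≫ qB) ≫ aB := by
        rw [e, Functor.map_comp, Category.assoc, sB.w, Category.assoc]
      have h2 : (yon S).map (l ≫ t) ≫ q = ((yon S).map y ≫ qB) ≫ aB := by
        rw [← h1, Functor.map_comp, Functor.map_comp, Category.assoc, Category.assoc, sqR.w]
      simp only [← Category.assoc, ← Functor.map_comp, ptB _ _ _ h1, ptB _ _ _ h2]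
  haveI : IsRegularEpi q := IsRegularEpiCategory.regularEpiOfEpi _
  have hcond : IsRegularEpi.left q ≫ m₀ = IsRegularEpi.right q ≫ m₀ := by
    obtain ⟨l, hl₁, hl₂⟩ := sqR.exists_lift _ _ (IsRegularEpi.w q)
    rw [← hl₁, ← hl₂, Category.assoc, Category.assoc, hag]
  have hm : q ≫ IsRegularEpi.desc q m₀ hcond = m₀ := Cofork.IsColimit.π_desc' (IsRegularEpi.isColimit _) _ hcond
  haveI := epi_of_etale_surjective (repWith_of_isPullback sA hq) (repWith_of_isPullback sA hqs)
  haveI := epi_of_etale_surjective (repWith_of_isPullback sB hq) (repWith_of_isPullback sB hqs)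
  refine ⟨IsRegularEpi.desc q m₀ hcond, ⟨?_, ?_⟩, fun m ⟨h1, h2⟩ => ?_⟩
  · rw [← cancel_epi qA, ← reassoc_of% sA.w, hm, hm₁]
  · rw [← cancel_epi qB, ← reassoc_of% sB.w, hm, hm₂]
  · rw [← cancel_epi q, hm]
    refine SpPush.hom_ext hT hbc (𝟙 _) (show Flat (𝟙 _) from inferInstance) (fun Q l x e => ?_) (fun Q l y e => ?_)
    · rw [Category.comp_id] at e
      rw [e, Functor.map_comp, Category.assoc, Category.assoc, reassoc_of% sA.w, h1, hm₁]
    · rw [Category.comp_id] at e
      rw [e, Functor.map_comp, Category.assoc, Category.assoc, reassoc_of% sB.w, h2, hm₂]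

end Groth.Agent.H12AlgSp.ThickPush
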