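import Groth.Agent.H12AlgSp.ThickPush.Relation
import Groth.Agent.H12AlgSp.ThickPush.Formal
import Groth.Agent.H12AlgSp.Bootstrap
import Groth.Agent.H13AlgSp.ThickAff.EtSite
import Groth.Agent.H13AlgSp.AffineLocal
import Groth.Agent.H13Desc.EffColimit

/-!
Pushouts of algebraic spaces along thickenings and affine morphisms.
-/

set_option autoImplicit false
set_option backward.isDefEq.respectTransparency false
set_option linter.style.haveILetI false

universe u

open CategoryTheory CategoryTheory.Limits AlgebraicGeometry Opposite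
open AlgSp Groth.Agent.H13AlgSp Groth.Agent.H7Flat

namespace Groth.Agent.H12AlgSp.ThickPush

variable {S : Scheme.{u}} {X X' Y Y' : Sp S}

/-- An etale atlas of a pinched space together with its restrictions. -/
structure Atlas (t : X ⟶ X') (f : X ⟶ Y) (f' : X' ⟶ Y') (t' : Y ⟶ Y') where
  U : Over S
  U' : Over S
  V : Over S
  V' : Over S
  i : U ⟶ U'
  j : U ⟶ V
  a : U' ⟶ V'
  b : V ⟶ V'
  e : (yon S).obj U ⟶ X
  e' : (yon S).obj U' ⟶ X'
  p : (yon S).obj V ⟶ Y
  q : (yon S).obj V' ⟶ Y'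
  thick : MoreMor.IsThickening i.left
  affine : IsAffineHom j.left
  po : IsPushout i.left j.left a.left b.left
  separated : IsSeparated V.hom
  etale : RepWith @Etale q
  surjective : RepWith @Surjective q
  sqt : IsPullback ((yon S).map i) e e' t
  sqf : IsPullback ((yon S).map j) e p f
  sqa : IsPullback ((yon S).map a) e' q f'
  sqb : IsPullback ((yon S).map b) p q t'

theorem etaleLift_thick {Z X₁ Y₁ P : Scheme.{u}} {i : Z ⟶ X₁} {j : Z ⟶ Y₁} {a : X₁ ⟶ P} {b : Y₁ ⟶ P}
    (hi : MoreMor.IsThickening i) [IsAffineHom j] (hP : IsPushout i j a b) :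
    SpPush.FlatStable a b ∧ SpPush.EtaleLift i j a b := by
  haveI : IsClosedImmersion i := hi.1
  haveI : Surjective i := hi.2
  refine ⟨SpPush.flatStable_of_cov i j hP (hcov_of_thick i j hi),
    SpPush.etaleLift_of_cov i j hP (hcov_of_thick i j hi) fun X' Y' Z' f g k i' j' hX hY _ _ _ _ => ?_⟩
  haveI : IsClosedImmersion i' := MorphismProperty.of_isPullback hX inferInstance
  haveI : IsAffineHom j' := MorphismProperty.of_isPullback hY inferInstance
  exact hcov_of_thick i' j' ⟨inferInstance, MorphismProperty.of_isPullback (P := @Surjective) hX inferInstance⟩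

variable {t : X ⟶ X'} {f : X ⟶ Y}

theorem Atlas.existsUnique_desc {f' : X' ⟶ Y'} {t' : Y ⟶ Y'} (A : Atlas t f f' t') {T : Sp S} (hT : IsAlgSpace T)
    (g' : X' ⟶ T) (g : Y ⟶ T) (hg : t ≫ g' = f ≫ g) : ∃! m : Y' ⟶ T, f' ≫ m = g' ∧ t' ≫ m = g := by
  haveI := A.affine
  obtain ⟨U₁, p₁, hU₁, hp₁, hp₁s⟩ := Groth.Agent.H13EffColim.exists_separated_atlas hT
  obtain ⟨hbc, hlift⟩ := etaleLift_thick A.thick A.po
  exact ThickPush.existsUnique_desc A.etale A.surjective A.sqa A.sqb A.sqt.w.symm A.sqf.w.symm A.po hbc hlift hT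
    hp₁ hp₁s hU₁ g' g hg

theorem Atlas.comm {f' : X' ⟶ Y'} {t' : Y ⟶ Y'} (A : Atlas t f f' t') : t ≫ f' = f ≫ t' := by
  haveI := epi_of_etale_surjective
    (repWith_of_isPullback A.sqt (repWith_of_isPullback A.sqa A.etale))
    (repWith_of_isPullback A.sqt (repWith_of_isPullback A.sqa A.surjective))
  rw [← cancel_epi A.e, ← reassoc_of% A.sqt.w, ← A.sqa.w, ← reassoc_of% A.sqf.w, ← A.sqb.w,
    ← Category.assoc, ← Category.assoc, ← Functor.map_comp, ← Functor.map_comp,
    show A.i ≫ A.a = A.j ≫ A.b from Over.OverMorphism.ext A.po.w]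

/-- Etale charts lift along thickenings. -/
theorem exists_etale_lift (hX : IsAlgSpace X) (hX' : IsAlgSpace X') (ht : IsThickMor t) {U : Over S}
    {e : (yon S).obj U ⟶ X} (he : RepWith @Etale e) (hes : RepWith @Surjective e) :
    ∃ (U' : Over S) (e' : (yon S).obj U' ⟶ X') (i : U ⟶ U'), RepWith @Etale e' ∧ RepWith @Surjective e' ∧
      MoreMor.IsThickening i.left ∧ IsPullback ((yon S).map i) e e' t := by
  obtain ⟨-, hs, -, -, hinj⟩ := Thick.props_of_isThickMor hX' ht
  have h1 : IsIntegralMor t := isIntegralMor_iff.2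
    (repWith_le (fun _ _ k (h : AlgSp.thick k) => haveI := h.1; (inferInstance : IsIntegralHom k)) ht)
  obtain ⟨W, a, c, hW, ha, sq⟩ := TopInv.essSurj hX hX' h1 hinj hs (IsAlgSpace.yon_obj U)
    (H13AlgSp.isEtaleMor_of_locP (IsAlgSpace.yon_obj _) hX (H12AlgSp.locP_of_repWith etLocal_etale he))
  obtain ⟨M, ⟨μ⟩⟩ := ThickAff.exists_iso_of_thickMor hW (repWith_of_isPullback sq ht)
  have hae : RepWith @Etale (μ.hom ≫ a) :=
    H12AlgSp.repWith_of_locP etLocal_etale hX' (hX'.representable_from_yon _)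
      (H12AlgSp.locP_etale_of_isEtaleMor
        (LocalST.isEtaleMor_comp (fun _ φ hφ => MorphismProperty.RespectsIso.postcomp (P := RepWith @Etale) μ.hom φ hφ) ha))
  obtain ⟨i, hi⟩ := (yon S).map_surjective (c ≫ μ.inv)
  have sq2 : IsPullback ((yon S).map i) e (μ.hom ≫ a) t := by
    rw [hi]
    exact (sq.of_iso (Iso.refl _) (Iso.refl _) μ.symm (Iso.refl _) (by simp) (by simp) (by simp) (by simp)).flip
  refine ⟨M, μ.hom ≫ a, i, hae, repWith_surjective_of_map hae.1 fun x => ?_, ht.property _ _ i sq2.flip, sq2⟩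
  obtain ⟨x₀, rfl⟩ := hs x
  obtain ⟨u, rfl⟩ := surjective_map_of_repWith (P := @Surjective) le_rfl hes x₀
  exact ⟨Points.map ((yon S).map i) u, by rw [← Points.map_comp, sq2.w, Points.map_comp]⟩

/-- A thickening and an affine morphism have a pushout with an atlas. -/
theorem exists_atlas_over (hX : IsAlgSpace X) (hX' : IsAlgSpace X') (hY : IsAlgSpace Y) (ht : IsThickMor t)
    (hf : IsAffineMor f) {Q : ∀ V : Over S, ((yon S).obj V ⟶ Y) → Prop}
    (hQ : ∃ (V : Over S) (p : (yon S).obj V ⟶ Y), IsSeparated V.hom ∧ RepWith @Etale p ∧ RepWith @Surjective p ∧ Q V p) : ∃ (Y' : Sp S) (f' : X' ⟶ Y') (t' : Y ⟶ Y'), IsAlgSpace Y' ∧ IsThickMor t' ∧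
      ∃ A : Atlas t f f' t', Q A.V A.p := by
  obtain ⟨V, p, hV, hp, hps, hQ⟩ := hQ
  have hf' := isAffineMor_iff.1 hf
  obtain ⟨U, j, e, sqf'⟩ := hf'.rep p
  have sqf := sqf'.flip
  have hj : IsAffineHom j.left := hf'.property p e j sqf'
  have he : RepWith @Etale e := repWith_of_isPullback sqf hp
  have hes : RepWith @Surjective e := repWith_of_isPullback sqf hps
  obtain ⟨U', e', i, he', hes', hi, sqt⟩ := exists_etale_lift hX hX' ht he hes
  haveI : IsClosedImmersion i.left := hi.1
  haveI : Surjective i.left := hi.2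
  obtain ⟨RU, sU, tU, -, -, sqU⟩ := exists_kernelPair he
  obtain ⟨RU', sU', tU', -, -, sqU'⟩ := exists_kernelPair he'
  obtain ⟨R, sV, tV, -, -, sqV⟩ := exists_kernelPair hp
  obtain ⟨iR, hti, hsi⟩ := exists_kernelPair_square sqt sqU sqU'
  obtain ⟨jR, htj, hsj⟩ := exists_kernelPair_square sqf sqU sqV
  haveI : IsClosedImmersion iR.left :=
    MorphismProperty.of_isPullback (P := @IsClosedImmersion) (isPullback_left hti).flip inferInstance
  haveI : Surjective iR.left :=
    MorphismProperty.of_isPullback (P := @Surjective) (isPullback_left hti).flip inferInstance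
  haveI : IsAffineHom jR.left :=
    MorphismProperty.of_isPullback (P := @IsAffineHom) (isPullback_left htj).flip inferInstance
  have hiR : MoreMor.IsThickening iR.left := ⟨inferInstance, inferInstance⟩
  have po := glued_isPushout (hcov_of_thick i.left j.left hi)
  have poR := glued_isPushout (hcov_of_thick iR.left jR.left hiR)
  let V' : Over S := Over.mk (po.desc U'.hom V.hom (by rw [Over.w, Over.w]))
  let R' : Over S := Over.mk (poR.desc RU'.hom R.hom (by rw [Over.w, Over.w]))
  let a : U' ⟶ V' := Over.homMk _ (po.inl_desc _ _ _)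
  let b : V ⟶ V' := Over.homMk _ (po.inr_desc _ _ _)
  let aR : RU' ⟶ R' := Over.homMk _ (poR.inl_desc _ _ _)
  let bR : R ⟶ R' := Over.homMk _ (poR.inr_desc _ _ _)
  have mk : ∀ (uU : RU ⟶ U) (uU' : RU' ⟶ U') (uV : R ⟶ V), iR ≫ uU' = uU ≫ i → jR ≫ uV = uU ≫ j →
      ∃ u : R' ⟶ V', aR ≫ u = uU' ≫ a ∧ bR ≫ u = uV ≫ b := by
    intro uU uU' uV h1 h2
    have w : iR.left ≫ (uU' ≫ a).left = jR.left ≫ (uV ≫ b).left := by
      rw [← Over.comp_left, ← Over.comp_left, ← Category.assoc, h1, ← Category.assoc, h2, Category.assoc,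
        Category.assoc, show i ≫ a = j ≫ b from Over.OverMorphism.ext po.w]
    refine ⟨Over.homMk (poR.desc _ _ w) (poR.hom_ext ?_ ?_), Over.OverMorphism.ext (poR.inl_desc _ _ _),
      Over.OverMorphism.ext (poR.inr_desc _ _ _)⟩
    · rw [poR.inl_desc_assoc]
      exact (Over.w (uU' ≫ a)).trans (poR.inl_desc _ _ _).symm
    · rw [poR.inr_desc_assoc]
      exact (Over.w (uV ≫ b)).trans (poR.inr_desc _ _ _).symm
  obtain ⟨t₁, hat, hbt⟩ := mk tU tU' tV hti.w htj.w
  obtain ⟨s₁, has, hbs⟩ := mk sU sU' sV hsi.w hsj.w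
  let D : RelInput (S := S) :=
    { U := U, U' := U', V := V, V' := V', i := i, j := j, a := a, b := b, RU := RU, RU' := RU', R := R, R' := R',
      iR := iR, jR := jR, aR := aR, bR := bR, tU := tU, sU := sU, tU' := tU', sU' := sU', t := tV, s := sV,
      t' := t₁, s' := s₁, thick := hi, affine := hj, thickR := hiR, affineR := inferInstance, po := po, poR := poR,
      hat := hat, has := has, hbt := hbt, hbs := hbs, hti := hti, hsi := hsi, htj := htj, hsj := hsj,
      relU := isEtaleEqvRel_of_isPullback he' sqU', rel := isEtaleEqvRel_of_isPullback hp sqV }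
  obtain ⟨hY', hpres⟩ := isAlgSpace_quot s₁ t₁ D.isEtaleEqvRel
  set q := quotMap s₁ t₁ with hq
  have descend : ∀ {Z : Sp S} {W RW : Over S} {w : (yon S).obj W ⟶ Z} {tW sW : RW ⟶ W},
      RepWith @Etale w → RepWith @Surjective w → IsPullback ((yon S).map tW) ((yon S).map sW) w w →
      ∀ (g : W ⟶ V') (gR : RW ⟶ R'), gR ≫ t₁ = tW ≫ g → gR ≫ s₁ = sW ≫ g →
        ∃ h : Z ⟶ _, (yon S).map g ≫ q = w ≫ h := by
    intro Z W RW w tW sW hw hws sqW g gR h1 h2
    obtain ⟨hcol⟩ := nonempty_isColimit_of_atlas hw hws sqW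
    have hcond : (yon S).map tW ≫ (yon S).map g ≫ q = (yon S).map sW ≫ (yon S).map g ≫ q := by
      rw [← Category.assoc, ← Category.assoc, ← Functor.map_comp, ← Functor.map_comp, ← h1, ← h2, Functor.map_comp,
        Functor.map_comp, Category.assoc, Category.assoc, hpres.isPullback.w]
    exact ⟨Cofork.IsColimit.desc hcol _ hcond, (Cofork.IsColimit.π_desc' hcol _ hcond).symm⟩
  obtain ⟨f', hf₁⟩ := descend he' hes' sqU' a aR hat has
  obtain ⟨t', ht₁⟩ := descend hp hps sqV b bR hbt hbs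
  have sqa := isPullback_of_relPullback he' hes' sqU' hpres.isPullback has
    (IsPullback.of_map (Over.forget S) hat D.props_t.sqa) hf₁
  have sqb := isPullback_of_relPullback hp hps sqV hpres.isPullback hbs
    (IsPullback.of_map (Over.forget S) hbt D.props_t.sqb) ht₁
  let A : Atlas t f f' t' :=
    { U := U, U' := U', V := V, V' := V', i := i, j := j, a := a, b := b, e := e, e' := e', p := p, q := q,
      thick := hi, affine := hj, po := po, separated := hV, etale := hpres.etale, surjective := hpres.surjective,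
      sqt := sqt, sqf := sqf, sqa := sqa, sqb := sqb }
  refine ⟨_, f', t', hY', ?_, A, hQ⟩
  have hb := surjective_inl D.po D.thick
  have hc : RepWith @IsClosedImmersion t' :=
    repWith_of_etale_cover (fun _ _ k (_ : IsClosedImmersion k) => inferInstanceAs (IsAffineHom k))
      hY hY' hpres.etale hpres.surjective sqb.flip ((repWith_yon_map_iff _ b).2 hb.1)
  have hs : RepWith @Surjective t' := repWith_surjective_of_map hc.1 fun y => by
    obtain ⟨v', rfl⟩ := surjective_map_of_repWith (P := @Surjective) le_rfl hpres.surjective y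
    obtain ⟨v, rfl⟩ := surjective_map_of_repWith (P := @Surjective) le_rfl ((repWith_yon_map_iff _ b).2 hb.2) v'
    exact ⟨Points.map p v, by rw [← Points.map_comp, ← Points.map_comp, sqb.w]⟩
  exact repWith_inf_iff.2 ⟨hc, hs⟩

theorem exists_atlas (hX : IsAlgSpace X) (hX' : IsAlgSpace X') (hY : IsAlgSpace Y) (ht : IsThickMor t)
    (hf : IsAffineMor f) : ∃ (Y' : Sp S) (f' : X' ⟶ Y') (t' : Y ⟶ Y'), IsAlgSpace Y' ∧ IsThickMor t' ∧
      Nonempty (Atlas t f f' t') := by
  obtain ⟨V, p, hV, hp, hps⟩ := Groth.Agent.H13EffColim.exists_separated_atlas hY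
  obtain ⟨Y', f', t', h1, h2, A, -⟩ :=
    exists_atlas_over hX hX' hY ht hf (Q := fun _ _ => True) ⟨V, p, hV, hp, hps, trivial⟩
  exact ⟨Y', f', t', h1, h2, ⟨A⟩⟩

end Groth.Agent.H12AlgSp.ThickPush
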