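import Groth.Agent.H12AlgSp.ThickPush.Atlas

/-!
Pushouts along thickenings in the category of algebraic spaces.
-/

set_option autoImplicit false
set_option backward.isDefEq.respectTransparency false
set_option linter.style.haveILetI false

universe u

open CategoryTheory CategoryTheory.Limits AlgebraicGeometry Opposite
open AlgSp Groth.Agent.H13AlgSp Groth.Agent.H7Flat

namespace Groth.Agent.H12AlgSp.ThickPush

variable {S : Scheme.{u}}

theorem isPushout_of_existsUnique {A B C D : Space S} {x : A ⟶ B} {y : A ⟶ C} {f : B ⟶ D} {g : C ⟶ D}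
    (w : x ≫ f = y ≫ g)
    (h : ∀ (T : Sp S), IsAlgSpace T → ∀ (gB : B.obj ⟶ T) (gC : C.obj ⟶ T), x.hom ≫ gB = y.hom ≫ gC →
      ∃! m : D.obj ⟶ T, f.hom ≫ m = gB ∧ g.hom ≫ m = gC) : IsPushout x y f g := by
  refine ⟨⟨w⟩, ⟨PushoutCocone.isColimitAux' _ fun s => ?_⟩⟩
  have e := h s.pt.obj s.pt.property s.inl.hom s.inr.hom (congrArg InducedCategory.Hom.hom s.condition)
  exact ⟨ObjectProperty.homMk e.choose, ObjectProperty.hom_ext _ e.choose_spec.1.1,
    ObjectProperty.hom_ext _ e.choose_spec.1.2, fun {m} e1 e2 =>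
      ObjectProperty.hom_ext _ (e.choose_spec.2 m.hom
        ⟨congrArg InducedCategory.Hom.hom e1, congrArg InducedCategory.Hom.hom e2⟩)⟩

theorem exists_isPushout {X X' Y : Space S} (t : X ⟶ X') (ht : IsThickMor t.hom) (f : X ⟶ Y)
    (hf : IsAffineMor f.hom) :
    ∃ (Y' : Space S) (f' : X' ⟶ Y') (t' : Y ⟶ Y'), IsPushout t f f' t' ∧ IsThickMor t'.hom ∧
      Nonempty (Atlas t.hom f.hom f'.hom t'.hom) := by
  obtain ⟨P, f', t', hP, ht', ⟨A⟩⟩ := exists_atlas X.property X'.property Y.property ht hf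
  exact ⟨⟨P, hP⟩, ObjectProperty.homMk f', ObjectProperty.homMk t',
    isPushout_of_existsUnique (ObjectProperty.hom_ext _ A.comm) (fun T hT => A.existsUnique_desc hT), ht', ⟨A⟩⟩

/-- Every pushout along a thickening and an affine morphism has an atlas. -/
theorem exists_atlas_of_isPushout {X X' Y Y' : Space S} {t : X ⟶ X'} {f : X ⟶ Y} {f' : X' ⟶ Y'} {t' : Y ⟶ Y'}
    (ht : IsThickMor t.hom) (hf : IsAffineMor f.hom) (h : IsPushout t f f' t') :
    Nonempty (Atlas t.hom f.hom f'.hom t'.hom) ∧ IsThickMor t'.hom := by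
  obtain ⟨Z, g', s', hZ, hs', ⟨A⟩⟩ := exists_isPushout t ht f hf
  let e := hZ.isoIsPushout _ _ h
  let e' : Z.obj ≅ Y'.obj := (ObjectProperty.ι _).mapIso e
  have h1 : g'.hom ≫ e'.hom = f'.hom := congrArg InducedCategory.Hom.hom (hZ.inl_isoIsPushout_hom _ _ h)
  have h2 : s'.hom ≫ e'.hom = t'.hom := congrArg InducedCategory.Hom.hom (hZ.inr_isoIsPushout_hom _ _ h)
  refine ⟨⟨{ A with
    q := A.q ≫ e'.hom
    etale := MorphismProperty.RespectsIso.postcomp (P := RepWith @Etale) e'.hom _ A.etale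
    surjective := MorphismProperty.RespectsIso.postcomp (P := RepWith @Surjective) e'.hom _ A.surjective
    sqa := A.sqa.of_iso (Iso.refl _) (Iso.refl _) (Iso.refl _) e' (by simp) (by simp) (by simp) (by simp [h1])
    sqb := A.sqb.of_iso (Iso.refl _) (Iso.refl _) (Iso.refl _) e' (by simp) (by simp) (by simp) (by simp [h2]) }⟩, ?_⟩
  rw [← h2]
  exact MorphismProperty.RespectsIso.postcomp (P := RepWith AlgSp.thick) e'.hom _ hs'

theorem isPushout_restrictions {X X' Y Y' W' WY WX' WX : Space S}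
    {t : X ⟶ X'} (ht : IsThickMor t.hom) {f : X ⟶ Y} (hf : IsAffineMor f.hom) {f' : X' ⟶ Y'}
    {t' : Y ⟶ Y'} (hY' : IsPushout t f f' t') {w : W' ⟶ Y'} (hw : LocP @Flat w.hom) {aY : WY ⟶ W'}
    {bY : WY ⟶ Y} (hWY : IsPullback aY.hom bY.hom w.hom t'.hom) {aX' : WX' ⟶ W'} {bX' : WX' ⟶ X'}
    (hWX' : IsPullback aX'.hom bX'.hom w.hom f'.hom) {cY : WX ⟶ WY} {cX' : WX ⟶ WX'} {bX : WX ⟶ X}
    (hWX₁ : IsPullback cY.hom bX.hom bY.hom f.hom) (hWX₂ : IsPullback cX'.hom bX.hom bX'.hom t.hom)
    (hcomm : cY ≫ aY = cX' ≫ aX') : IsPushout cY cX' aY aX' := by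
  obtain ⟨⟨A⟩, -⟩ := exists_atlas_of_isPushout ht hf hY'
  -- an atlas of `W'` over the atlas
  obtain ⟨W₁, p₁, hp₁, hp₁s⟩ :=
    (isAlgSpace_pullback Y'.property.diag W'.property (IsAlgSpace.yon_obj A.V') w.hom A.q).atlas
  obtain ⟨k, hk⟩ := (yon S).map_surjective (p₁ ≫ pullback.snd w.hom A.q)
  let q₁ := p₁ ≫ pullback.fst w.hom A.q
  have hq₁ : RepWith @Etale q₁ :=
    repWith_comp hp₁ (repWith_of_isPullback (IsPullback.of_hasPullback w.hom A.q).flip A.etale)
  have hq₁s : RepWith @Surjective q₁ :=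
    repWith_comp hp₁s (repWith_of_isPullback (IsPullback.of_hasPullback w.hom A.q).flip A.surjective)
  have hqk : q₁ ≫ w.hom = (yon S).map k ≫ A.q := by
    rw [hk, Category.assoc, Category.assoc, pullback.condition]
  haveI : Flat k.left := hw q₁ A.q k hq₁ A.etale hqk
  -- the pieces
  have sA := IsPullback.of_hasPullback k A.a
  have sB := IsPullback.of_hasPullback k A.b
  obtain ⟨qA, hqA₁, hqA₂⟩ := hWX'.exists_lift ((yon S).map (pullback.fst k A.a) ≫ q₁)
    ((yon S).map (pullback.snd k A.a) ≫ A.e') (by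
      rw [Category.assoc, hqk, ← Category.assoc, ← Functor.map_comp, pullback.condition, Functor.map_comp,
        Category.assoc, A.sqa.w, Category.assoc])
  have sqA : IsPullback ((yon S).map (pullback.fst k A.a)) qA q₁ aX'.hom := by
    refine (IsPullback.of_right ?_ hqA₁ hWX'.flip).flip
    · rw [hqA₂]
      exact (hqk ▸ (((sA.map (yon S)).paste_vert A.sqa).flip))
  obtain ⟨qB, hqB₁, hqB₂⟩ := hWY.exists_lift ((yon S).map (pullback.fst k A.b) ≫ q₁)
    ((yon S).map (pullback.snd k A.b) ≫ A.p) (by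
      rw [Category.assoc, hqk, ← Category.assoc, ← Functor.map_comp, pullback.condition, Functor.map_comp,
        Category.assoc, A.sqb.w, Category.assoc])
  have sqB : IsPullback ((yon S).map (pullback.fst k A.b)) qB q₁ aY.hom := by
    refine (IsPullback.of_right ?_ hqB₁ hWY.flip).flip
    · rw [hqB₂]
      exact (hqk ▸ (((sB.map (yon S)).paste_vert A.sqb).flip))
  -- the common part
  have hcom : A.i ≫ A.a = A.j ≫ A.b := Over.OverMorphism.ext A.po.w
  let PC := pullback k (A.i ≫ A.a)
  let i₁ : PC ⟶ pullback k A.a := pullback.lift (pullback.fst _ _) (pullback.snd _ _ ≫ A.i)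
    (by rw [Category.assoc, pullback.condition])
  let j₁ : PC ⟶ pullback k A.b := pullback.lift (pullback.fst _ _) (pullback.snd _ _ ≫ A.j)
    (by rw [Category.assoc, ← hcom, pullback.condition])
  have sqi : IsPullback i₁ (pullback.snd k (A.i ≫ A.a)) (pullback.snd k A.a) A.i := by
    refine IsPullback.of_right ?_ (pullback.lift_snd _ _ _) sA
    rw [pullback.lift_fst]
    exact IsPullback.of_hasPullback k (A.i ≫ A.a)
  have sqj : IsPullback j₁ (pullback.snd k (A.i ≫ A.a)) (pullback.snd k A.b) A.j := by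
    refine IsPullback.of_right ?_ (pullback.lift_snd _ _ _) sB
    rw [pullback.lift_fst, ← hcom]
    exact IsPullback.of_hasPullback k (A.i ≫ A.a)
  haveI : IsClosedImmersion A.i.left := A.thick.1
  haveI : Surjective A.i.left := A.thick.2
  haveI := A.affine
  haveI : IsClosedImmersion i₁.left :=
    MorphismProperty.of_isPullback (P := @IsClosedImmersion) (isPullback_left sqi).flip inferInstance
  haveI : IsAffineHom j₁.left :=
    MorphismProperty.of_isPullback (P := @IsAffineHom) (isPullback_left sqj).flip inferInstance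
  have hi₁ : MoreMor.IsThickening i₁.left :=
    ⟨inferInstance, MorphismProperty.of_isPullback (P := @Surjective) (isPullback_left sqi).flip inferInstance⟩
  have hpoW : IsPushout i₁.left j₁.left (pullback.fst k A.a).left (pullback.fst k A.b).left := by
    obtain ⟨Zr, u, v, hZ⟩ := (etaleLift_thick A.thick A.po).1 W₁.left k.left inferInstance
    have hcov := hcov_of_thick A.i.left A.j.left A.thick
    have hr := H8Props.PushoutProps.isPushout_baseChange_flat A.po hcov A.a.left A.b.left (A.i.left ≫ A.a.left)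
      (𝟙 A.V'.left) rfl A.po.w.symm (Category.comp_id _) (Category.comp_id _) k.left
    have eA := (isPullback_left sA).flip
    have eB := (isPullback_left sB).flip
    have eC : IsPullback (pullback.snd k (A.i ≫ A.a)).left (pullback.fst k (A.i ≫ A.a)).left
        (A.i.left ≫ A.a.left) k.left := (isPullback_left (IsPullback.of_hasPullback k (A.i ≫ A.a))).flip
    exact hr.of_iso eC.isoPullback.symm eA.isoPullback.symm eB.isoPullback.symm
      (asIso (pullback.snd (𝟙 A.V'.left) k.left))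
      (by
        dsimp only [Iso.symm_hom]
        rw [Iso.eq_inv_comp, ← Category.assoc, Iso.comp_inv_eq]
        apply pullback.hom_ext
        · simp [i₁, ← Over.comp_left]
        · simp [i₁, ← Over.comp_left])
      (by
        dsimp only [Iso.symm_hom]
        rw [Iso.eq_inv_comp, ← Category.assoc, Iso.comp_inv_eq]
        apply pullback.hom_ext
        · simp [j₁, ← Over.comp_left]
        · simp [j₁, ← Over.comp_left])
      (by
        dsimp only [Iso.symm_hom]
        rw [Iso.eq_inv_comp]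
        simp)
      (by
        dsimp only [Iso.symm_hom]
        rw [Iso.eq_inv_comp]
        simp)
  obtain ⟨qC, hqC₁, hqC₂⟩ := hWX₂.exists_lift ((yon S).map i₁ ≫ qA)
    ((yon S).map (pullback.snd k (A.i ≫ A.a)) ≫ A.e) (by
      rw [Category.assoc, hqA₂, Category.assoc, ← A.sqt.w, ← Category.assoc, ← Functor.map_comp,
        pullback.lift_snd, Functor.map_comp, Category.assoc])
  have eY : qC ≫ cY.hom = (yon S).map j₁ ≫ qB := by
    refine hWY.hom_ext ?_ ?_
    · rw [Category.assoc, show cY.hom ≫ aY.hom = cX'.hom ≫ aX'.hom from congrArg InducedCategory.Hom.hom hcomm,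
        reassoc_of% hqC₁, hqA₁, Category.assoc, hqB₁, ← Category.assoc ((yon S).map i₁),
        ← Category.assoc ((yon S).map j₁), ← Functor.map_comp, ← Functor.map_comp, pullback.lift_fst, pullback.lift_fst]
    · rw [Category.assoc, hWX₁.w, reassoc_of% hqC₂, ← A.sqf.w, Category.assoc, hqB₂, ← Category.assoc,
        ← Category.assoc, ← Functor.map_comp, ← Functor.map_comp, pullback.lift_snd]
  refine isPushout_of_existsUnique hcomm fun T hT gB gC hg => ?_
  obtain ⟨U₁, r, hU₁, hr, hrs⟩ := Groth.Agent.H13EffColim.exists_separated_atlas hT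
  obtain ⟨hbc, hlift⟩ := etaleLift_thick hi₁ hpoW
  obtain ⟨m, ⟨hm₁, hm₂⟩, hu⟩ := ThickPush.existsUnique_desc hq₁ hq₁s sqA sqB hqC₁ eY hpoW hbc hlift hT hr hrs hU₁
    gC gB hg.symm
  exact ⟨m, ⟨hm₂, hm₁⟩, fun m' hm' => hu m' ⟨hm'.2, hm'.1⟩⟩

end Groth.Agent.H12AlgSp.ThickPush
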