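import Groth.Agent.H12AlgSp.SpPush.Pinch
import Groth.Agent.H8Props.PushoutProps.Fibred
import Groth.Prelude.Def_MoreMor

/-!
Morphisms of pinched schemes: cartesian squares and inherited properties.
-/

set_option autoImplicit false
set_option backward.isDefEq.respectTransparency false
set_option linter.style.haveILetI false

universe u

open CategoryTheory CategoryTheory.Limits AlgebraicGeometry Opposite TensorProduct
open Groth.Agent.H7Flat Groth.Agent.H8Props.PushoutQF Groth.Agent.H8Props.PushoutProps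
open Groth.Agent.H12AlgSp.SpPush

namespace Groth.Agent.H12AlgSp.ThickPush

variable {R A B C R' A' B' C' : Type u} [CommRing R] [CommRing A] [CommRing B] [CommRing C]
  [CommRing R'] [CommRing A'] [CommRing B'] [CommRing C']
  {pa : R →+* A} {pb : R →+* B} {p : A →+* C} {q : B →+* C}
  {pa' : R' →+* A'} {pb' : R' →+* B'} {p' : A' →+* C'} {q' : B' →+* C'}
  {φ : R →+* R'} {fA : A →+* A'} {fB : B →+* B'} {fC : C →+* C'}

/-- Flatness and finite presentation over a fibre product along one surjection. -/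
theorem sqHom_flat_fp' (H : SqHom pa pb p q pa' pb' p' q' φ fA fB fC) :
    (fA.Flat → fB.Flat → φ.Flat) ∧
    (fA.Flat → fB.Flat → fA.FinitePresentation → fB.FinitePresentation → φ.FinitePresentation) := by
  letI := pa.toAlgebra
  letI := pb.toAlgebra
  letI := p.toAlgebra
  letI := q.toAlgebra
  letI : Algebra R C := (p.comp pa).toAlgebra
  haveI : IsScalarTower R A C := IsScalarTower.of_algebraMap_eq fun _ => rfl
  haveI : IsScalarTower R B C := IsScalarTower.of_algebraMap_eq fun z => H.sq.comm z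
  have hsq : EtMil.IsFibreSquare R B A C := ⟨H.sq.surj, fun b a h => by
    obtain ⟨z, hz₁, hz₂⟩ := H.sq.exists_lift a b h.symm
    exact ⟨z, ⟨hz₂, hz₁⟩, fun z' hz' => H.sq.ext _ _ (hz'.2.trans hz₁.symm) (hz'.1.trans hz₂.symm)⟩⟩
  letI := φ.toAlgebra
  letI := fA.toAlgebra
  letI := fB.toAlgebra
  letI := pa'.toAlgebra
  letI := pb'.toAlgebra
  letI : Algebra R A' := (fA.comp pa).toAlgebra
  letI : Algebra R B' := (fB.comp pb).toAlgebra
  haveI : IsScalarTower R A A' := IsScalarTower.of_algebraMap_eq fun _ => rfl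
  haveI : IsScalarTower R B B' := IsScalarTower.of_algebraMap_eq fun _ => rfl
  haveI : IsScalarTower R R' A' := IsScalarTower.of_algebraMap_eq' H.commA.symm
  haveI : IsScalarTower R R' B' := IsScalarTower.of_algebraMap_eq' H.commB.symm
  haveI hPA : Algebra.IsPushout R A R' A' := CommRingCat.isPushout_iff_isPushout.1 H.isPushout.1
  haveI hPB : Algebra.IsPushout R B R' B' := CommRingCat.isPushout_iff_isPushout.1 H.isPushout.2
  let eA := Algebra.IsPushout.equiv R A R' A'
  let eB := Algebra.IsPushout.equiv R B R' B'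
  have hflat : fA.Flat → fB.Flat → Module.Flat R R' := fun hA hB => by
    haveI : Module.Flat A A' := hA
    haveI : Module.Flat B B' := hB
    haveI : Module.Flat A (A ⊗[R] R') := Module.Flat.of_linearEquiv eA.toLinearEquiv
    haveI : Module.Flat B (B ⊗[R] R') := Module.Flat.of_linearEquiv eB.toLinearEquiv
    exact H9Hens.Milnor.flat_of_flat_baseChange hsq
  refine ⟨hflat, fun hA hB hA' hB' => ?_⟩
  haveI := hflat hA hB
  haveI : Algebra.FinitePresentation A A' := hA'
  haveI : Algebra.FinitePresentation B B' := hB'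
  haveI : Algebra.FinitePresentation A (A ⊗[R] R') := Algebra.FinitePresentation.equiv eA.symm
  haveI : Algebra.FinitePresentation B (B ⊗[R] R') := Algebra.FinitePresentation.equiv eB.symm
  haveI : Algebra.FiniteType R R' :=
    H.finiteType (RingHom.FiniteType.of_finitePresentation hA') (RingHom.FiniteType.of_finitePresentation hB')
  exact finitePresentation_of_square hsq

variable {X Y Z X₁ Y₁ Z₁ P P₁ : Scheme.{u}} {i : Z ⟶ X} {j : Z ⟶ Y} {a : X ⟶ P} {b : Y ⟶ P}
  {i₁ : Z₁ ⟶ X₁} {j₁ : Z₁ ⟶ Y₁} {a₁ : X₁ ⟶ P₁} {b₁ : Y₁ ⟶ P₁} {f : X₁ ⟶ X} {g : Y₁ ⟶ Y} {h : Z₁ ⟶ Z}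
  {k : P₁ ⟶ P}

/-- The conclusions about a cartesian morphism of pinchings. -/
structure MapProps (f : X₁ ⟶ X) (g : Y₁ ⟶ Y) (a : X ⟶ P) (b : Y ⟶ P) (a₁ : X₁ ⟶ P₁) (b₁ : Y₁ ⟶ P₁)
    (k : P₁ ⟶ P) : Prop where
  sqa : IsPullback a₁ f k a
  sqb : IsPullback b₁ g k b
  lft : LocallyOfFiniteType f → LocallyOfFiniteType g → LocallyOfFiniteType k
  flat : Flat f → Flat g → Flat k
  lfp : Flat f → Flat g → LocallyOfFinitePresentation f → LocallyOfFinitePresentation g →
    LocallyOfFinitePresentation k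
  etale : Etale f → Etale g → Etale k

theorem mapProps [IsClosedImmersion i] [IsClosedImmersion i₁] (hP : IsPushout i j a b)
    (hP₁ : IsPushout i₁ j₁ a₁ b₁) (hcov : ∀ y : Y, ∃ π : AP i j, y ∈ π.V)
    (hcov₁ : ∀ y : Y₁, ∃ π : AP i₁ j₁, y ∈ π.V) (hX : IsPullback h i₁ i f) (hY : IsPullback h j₁ j g)
    (ha : a₁ ≫ k = f ≫ a) (hb : b₁ ≫ k = g ≫ b) : MapProps f g a b a₁ b₁ k := by
  obtain ⟨e, rfl, rfl⟩ := H28Pinch.exists_iso_glued a b hP hcov
  obtain ⟨e₁, rfl, rfl⟩ := H28Pinch.exists_iso_glued a₁ b₁ hP₁ hcov₁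
  let k₀ : glued i₁ j₁ ⟶ glued i j := e₁.hom ≫ k ≫ e.inv
  have hk : k = e₁.inv ≫ k₀ ≫ e.hom := by simp [k₀]
  have hkX : inX hcov₁ ≫ k₀ = f ≫ inX hcov := by simp [k₀, reassoc_of% ha]
  have hkY : inY hcov₁ ≫ k₀ = g ≫ inY hcov := by simp [k₀, reassoc_of% hb]
  let I := {x : AP i₁ j₁ × AP i j // Over' f g x.1 x.2}
  let 𝒰 : (glued i₁ j₁).OpenCover :=
    { I₀ := I
      X := fun x => Spec (CommRingCat.of x.1.1.R)
      f := fun x => chart i₁ j₁ x.1.1
      mem₀ := by
        rw [Scheme.presieve₀_mem_precoverage_iff]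
        refine ⟨fun w => ?_, fun x => inferInstance⟩
        obtain ⟨π', π, o, hw⟩ := exists_over hX hY hcov w
        exact ⟨⟨(π', π), o⟩, hw⟩ }
  have hloc : ∀ (Q : MorphismProperty Scheme.{u}) [IsZariskiLocalAtSource Q] [Q.RespectsIso]
      [Q.IsStableUnderComposition],
      (∀ {U V : Scheme.{u}} (u : U ⟶ V), IsOpenImmersion u → Q u) →
      (∀ x : I, Q (sm (x.2.φ hX hY))) → Q k := by
    intro Q _ _ _ hopen hQ
    rw [hk, Q.cancel_left_of_respectsIso, Q.cancel_right_of_respectsIso]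
    refine IsZariskiLocalAtSource.of_openCover 𝒰 fun x => ?_
    show Q (chart i₁ j₁ x.1.1 ≫ k₀)
    rw [x.2.chart_comp hX hY hcov hcov₁ k₀ hkX hkY]
    exact Q.comp_mem _ _ (hQ x) (hopen _ inferInstance)
  have hpb : IsPullback g (inY hcov₁) (inY hcov) k₀ := by
    refine isPullback_of_cover hkY.symm fun c => ?_
    obtain ⟨π', π, o, hc⟩ := exists_over hX hY hcov c
    have h1 : IsPullback π'.hV.fromSpec (sm π'.pb) (inY hcov₁) (chart i₁ j₁ π') :=
      (IsOpenImmersion.isPullback _ _ _ _ (fromSpec_inY hcov₁ π') (inY_preimage hcov₁ π')).flip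
    refine ⟨_, chart i₁ j₁ π', inferInstance, hc, _, π'.hV.fromSpec, sm π'.pb, h1, ?_⟩
    rw [← o.spec_fB, o.chart_comp hX hY hcov hcov₁ k₀ hkX hkY]
    exact (isPullback_SpecMap_of_isPushout _ _ _ _ (o.sqHom hX hY).isPushout.2).paste_horiz
      (IsOpenImmersion.isPullback _ _ _ _ (fromSpec_inY hcov π) (inY_preimage hcov π)).flip
  have hpa : IsPullback f (inX hcov₁) (inX hcov) k₀ := by
    refine isPullback_of_cover hkX.symm fun c => ?_
    obtain ⟨π', π, o, hc⟩ := exists_over hX hY hcov c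
    have h1 : IsPullback π'.hU.fromSpec (sm π'.pa) (inX hcov₁) (chart i₁ j₁ π') :=
      (IsOpenImmersion.isPullback _ _ _ _ (fromSpec_inX hcov₁ π') (inX_preimage hcov₁ π')).flip
    refine ⟨_, chart i₁ j₁ π', inferInstance, hc, _, π'.hU.fromSpec, sm π'.pa, h1, ?_⟩
    rw [← o.spec_fA, o.chart_comp hX hY hcov hcov₁ k₀ hkX hkY]
    exact (isPullback_SpecMap_of_isPushout _ _ _ _ (o.sqHom hX hY).isPushout.1).paste_horiz
      (IsOpenImmersion.isPullback _ _ _ _ (fromSpec_inX hcov π) (inX_preimage hcov π)).flip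
  refine ⟨(hpa.of_iso (Iso.refl _) (Iso.refl _) e₁ e (by simp) (by simp) (by simp) (by simp [k₀])).flip,
    (hpb.of_iso (Iso.refl _) (Iso.refl _) e₁ e (by simp) (by simp) (by simp) (by simp [k₀])).flip,
    fun hf hg => ?_, fun hf hg => ?_, fun hf hg hf' hg' => ?_, fun hf hg => ?_⟩
  · refine hloc @LocallyOfFiniteType (fun u hu => inferInstance) fun x => ?_
    exact (HasRingHomProperty.Spec_iff (P := @LocallyOfFiniteType)).2 ((x.2.sqHom hX hY).finiteType
      (f.finiteType_appLE x.1.2.hU x.1.1.hU x.2.hU) (g.finiteType_appLE x.1.2.hV x.1.1.hV x.2.hV))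
  · refine hloc @Flat (fun u hu => inferInstance) fun x => ?_
    exact (HasRingHomProperty.Spec_iff (P := @Flat)).2
      ((sqHom_flat_fp' (x.2.sqHom hX hY)).1
        (f.flat_appLE x.1.2.hU x.1.1.hU x.2.hU) (g.flat_appLE x.1.2.hV x.1.1.hV x.2.hV))
  · refine hloc @LocallyOfFinitePresentation (fun u hu => inferInstance) fun x => ?_
    exact (HasRingHomProperty.Spec_iff (P := @LocallyOfFinitePresentation)).2
      ((sqHom_flat_fp' (x.2.sqHom hX hY)).2
        (f.flat_appLE x.1.2.hU x.1.1.hU x.2.hU) (g.flat_appLE x.1.2.hV x.1.1.hV x.2.hV)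
        (f.finitePresentation_appLE x.1.2.hU x.1.1.hU x.2.hU)
        (g.finitePresentation_appLE x.1.2.hV x.1.1.hV x.2.hV))
  · refine hloc @Etale (fun u hu => inferInstance) fun x => ?_
    exact (HasRingHomProperty.Spec_iff (P := @Etale)).2
      (sqHom_etale (x.2.sqHom hX hY) (f.etale_appLE x.1.2.hU x.1.1.hU x.2.hU)
        (g.etale_appLE x.1.2.hV x.1.1.hV x.2.hV))

theorem surjective_inl (hP : IsPushout i j a b) (hi : MoreMor.IsThickening i) [IsAffineHom j] :
    MoreMor.IsThickening b := by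
  haveI : IsClosedImmersion i := hi.1
  have hcov := exists_pair_thickening i j hi.2.surj
  obtain ⟨e, -, rfl⟩ := H28Pinch.exists_iso_glued a b hP hcov
  haveI := inY_isClosedImmersion hcov
  haveI : Surjective (inY hcov) := ⟨inY_surjective hcov hi.2.surj⟩
  exact ⟨inferInstance, inferInstance⟩

/-- A cartesian morphism of thickening pinchings: the smooth case. -/
theorem smooth_of_mapProps (hb : MoreMor.IsThickening b) (m : MapProps f g a b a₁ b₁ k) [Smooth f] [Smooth g] :
    Smooth k := by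
  haveI := m.flat inferInstance inferInstance
  haveI := m.lfp inferInstance inferInstance inferInstance inferInstance
  haveI : IsClosedImmersion b := hb.1
  haveI : Surjective b := hb.2
  exact Smooth.of_smooth_fiberToSpecResidueField k fun r => by
    obtain ⟨y, rfl⟩ := b.surjective r
    exact fiber_of_isPullback m.sqb.flip ‹Smooth g› y

end Groth.Agent.H12AlgSp.ThickPush
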