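import Groth.Agent.H12AlgSp.ThickPush.Main
import Groth.Agent.H13AlgSp.ThickCharts

/-!
Morphisms between pushouts of algebraic spaces along thickenings.
-/

set_option autoImplicit false
set_option backward.isDefEq.respectTransparency false
set_option linter.style.haveILetI false

universe u

open CategoryTheory CategoryTheory.Limits AlgebraicGeometry Opposite
open AlgSp Groth.Agent.H13AlgSp Groth.Agent.H7Flat

namespace Groth.Agent.H12AlgSp.ThickPush

variable {S : Scheme.{u}}

theorem isIso_of_isPullback_cover {A B : Sp S} {P : Over S} {m : A ⟶ B} {a : (yon S).obj P ⟶ A}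
    {c : (yon S).obj P ⟶ B} (hce : RepWith @Etale c) (hcs : RepWith @Surjective c)
    (sq : IsPullback (𝟙 ((yon S).obj P)) a c m) : IsIso m := by
  haveI : Epi m := by
    haveI := epi_of_etale_surjective hce hcs
    have : a ≫ m = c := by rw [← sq.w, Category.id_comp]
    exact epi_of_epi_fac this
  haveI : Mono m := mono_of_yon fun T x y e => by
    obtain ⟨W, w, l, sqW⟩ := hce.rep (x ≫ m)
    have hwe : Etale w.left := hce.property _ l w sqW
    have hws : Surjective w.left := hcs.property _ l w sqW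
    refine hom_ext_of_cover (fun _ : PUnit.{u + 1} => w)
      (ofArrows_mem_J _ (fun _ => inferInstance) (fun _ => inferInstance) fun z => ⟨⟨⟩, w.left.surjective z⟩) fun _ => ?_
    obtain ⟨lx, hlx₁, hlx₂⟩ := sq.exists_lift l ((yon S).map w ≫ x) (by rw [sqW.w, Category.assoc])
    obtain ⟨ly, hly₁, hly₂⟩ := sq.exists_lift l ((yon S).map w ≫ y) (by rw [sqW.w, Category.assoc, e])
    rw [Category.comp_id] at hlx₁ hly₁
    rw [← hlx₂, ← hly₂, hlx₁, hly₁]
  exact isIso_of_mono_of_epi m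

/-- Compatible atlases of a morphism between pushouts along thickenings. -/
structure Charts {X X' Y Y' U U' V V' : Space S} {t : X ⟶ X'} {f : X ⟶ Y} {f' : X' ⟶ Y'} {t' : Y ⟶ Y'}
    {uU' : U ⟶ U'} {uV : U ⟶ V} {iU' : U' ⟶ V'} {iV : V ⟶ V'} (A : Atlas t.hom f.hom f'.hom t'.hom)
    (B : Atlas uU'.hom uV.hom iU'.hom iV.hom) (v : V ⟶ Y) (u' : U' ⟶ X') (v' : V' ⟶ Y') where
  kX : B.U' ⟶ A.U'
  kY : B.V ⟶ A.V
  k : B.V' ⟶ A.V'
  props : MapProps kX.left kY.left A.a.left A.b.left B.a.left B.b.left k.left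
  wX : B.e' ≫ u'.hom = (yon S).map kX ≫ A.e'
  wY : B.p ≫ v.hom = (yon S).map kY ≫ A.p
  w : B.q ≫ v'.hom = (yon S).map k ≫ A.q

variable {X X' Y Y' U U' V V' : Space S} {t : X ⟶ X'} {f : X ⟶ Y} {f' : X' ⟶ Y'} {t' : Y ⟶ Y'}
  {v : V ⟶ Y} {u' : U' ⟶ X'} {uV : U ⟶ V} {uU' : U ⟶ U'} {uX : U ⟶ X}
  {iV : V ⟶ V'} {iU' : U' ⟶ V'} {v' : V' ⟶ Y'}

theorem exists_charts (ht : IsThickMor t.hom) (hf : IsAffineMor f.hom) (hY' : IsPushout t f f' t')
    (hUV : IsPullback uV.hom uX.hom v.hom f.hom) (hUU' : IsPullback uU'.hom uX.hom u'.hom t.hom)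
    (hV' : IsPushout uV uU' iV iU') (hv₁ : iV ≫ v' = v ≫ t') (hv₂ : iU' ≫ v' = u' ≫ f') :
    ∃ (A : Atlas t.hom f.hom f'.hom t'.hom) (B : Atlas uU'.hom uV.hom iU'.hom iV.hom),
      Nonempty (Charts A B v u' v') := by
  obtain ⟨⟨A⟩, -⟩ := exists_atlas_of_isPushout ht hf hY'
  have ht₁ : IsThickMor uU'.hom := repWith_of_isPullback hUU'.flip ht
  have hf₁ : IsAffineMor uV.hom := isAffineMor_iff.2 (repWith_of_isPullback hUV.flip (isAffineMor_iff.1 hf))
  let Q : ∀ W : Over S, ((yon S).obj W ⟶ V.obj) → Prop := fun W p => ∃ k : W ⟶ A.V, p ≫ v.hom = (yon S).map k ≫ A.p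
  have hQ : ∃ (W : Over S) (p : (yon S).obj W ⟶ V.obj), IsSeparated W.hom ∧ RepWith @Etale p ∧
      RepWith @Surjective p ∧ Q W p := by
    have sq := IsPullback.of_hasPullback v.hom A.p
    obtain ⟨W, c, hW, hc, hcs⟩ := Groth.Agent.H13EffColim.exists_separated_atlas
      (isAlgSpace_pullback Y.property.diag V.property (IsAlgSpace.yon_obj A.V) v.hom A.p)
    obtain ⟨k, hk⟩ := (yon S).map_surjective (c ≫ pullback.snd v.hom A.p)
    exact ⟨W, c ≫ pullback.fst v.hom A.p, hW,
      repWith_comp hc (repWith_of_isPullback sq.flip (repWith_of_isPullback A.sqb A.etale)),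
      repWith_comp hcs (repWith_of_isPullback sq.flip (repWith_of_isPullback A.sqb A.surjective)),
      k, by rw [hk, Category.assoc, Category.assoc, pullback.condition]⟩
  obtain ⟨Z, g', s', hZ, -, B₀, kY, hkY⟩ :=
    exists_atlas_over U.property U'.property V.property ht₁ hf₁ (Q := Q) hQ
  -- transport to the given pushout
  have hpoZ : IsPushout uU' uV (ObjectProperty.homMk g' : U' ⟶ (⟨Z, hZ⟩ : Space S)) (ObjectProperty.homMk s') :=
    isPushout_of_existsUnique (ObjectProperty.hom_ext _ B₀.comm) fun T hT => B₀.existsUnique_desc hT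
  let ee := hpoZ.isoIsPushout _ _ hV'.flip
  let e' : Z ≅ V'.obj := (ObjectProperty.ι _).mapIso ee
  have h1 : g' ≫ e'.hom = iU'.hom := congrArg InducedCategory.Hom.hom (hpoZ.inl_isoIsPushout_hom _ _ hV'.flip)
  have h2 : s' ≫ e'.hom = iV.hom := congrArg InducedCategory.Hom.hom (hpoZ.inr_isoIsPushout_hom _ _ hV'.flip)
  let B : Atlas uU'.hom uV.hom iU'.hom iV.hom :=
    { B₀ with
      q := B₀.q ≫ e'.hom
      etale := MorphismProperty.RespectsIso.postcomp (P := RepWith @Etale) e'.hom _ B₀.etale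
      surjective := MorphismProperty.RespectsIso.postcomp (P := RepWith @Surjective) e'.hom _ B₀.surjective
      sqa := B₀.sqa.of_iso (Iso.refl _) (Iso.refl _) (Iso.refl _) e' (by simp) (by simp) (by simp) (by simp [h1])
      sqb := B₀.sqb.of_iso (Iso.refl _) (Iso.refl _) (Iso.refl _) e' (by simp) (by simp) (by simp) (by simp [h2]) }
  change B.V ⟶ A.V at kY
  replace hkY : B.p ≫ v.hom = (yon S).map kY ≫ A.p := hkY
  -- the map of the common parts
  obtain ⟨kU, hkU₁, hkU₂⟩ := A.sqf.exists_lift ((yon S).map (B.j ≫ kY)) (B.e ≫ uX.hom) (by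
    rw [Functor.map_comp, Category.assoc, ← hkY, reassoc_of% B.sqf.w, hUV.w, Category.assoc])
  obtain ⟨kU, rfl⟩ := (yon S).map_surjective kU
  rw [← Functor.map_comp] at hkU₁
  have sqY : IsPullback B.j kU kY A.j := by
    refine IsPullback.of_map (yon S) ((yon S).map_injective hkU₁).symm (IsPullback.of_bot ?_ ?_ A.sqf)
    · rw [← hkY, hkU₂]
      exact B.sqf.paste_vert hUV
    · rw [← Functor.map_comp, ← Functor.map_comp, (yon S).map_injective hkU₁]
  -- the map of the thick parts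
  obtain ⟨-, hs, -, -, hinj⟩ := Thick.props_of_isThickMor X'.property ht
  have hint : IsIntegralMor t.hom := isIntegralMor_iff.2
    (repWith_le (fun _ _ k (h : AlgSp.thick k) => haveI := h.1; (inferInstance : IsIntegralHom k)) ht)
  obtain ⟨kX', ⟨hkX₁, hkX₂⟩, -⟩ := TopInv.fullyFaithful X.property X'.property hint hinj hs
    (IsAlgSpace.yon_obj B.U') (IsAlgSpace.yon_obj A.U') (IsAlgSpace.yon_obj B.U)
    (H13AlgSp.isEtaleMor_of_locP (IsAlgSpace.yon_obj _) X'.property
      (H12AlgSp.locP_of_repWith etLocal_etale (repWith_of_isPullback A.sqa A.etale)))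
    (B.sqt.paste_vert hUU').flip A.sqt.flip ((yon S).map kU) hkU₂
  obtain ⟨kX, rfl⟩ := (yon S).map_surjective kX'
  rw [← Functor.map_comp, ← Functor.map_comp] at hkX₂
  have sqX : IsPullback B.i kU kX A.i := by
    refine IsPullback.of_map (yon S) ((yon S).map_injective hkX₂) (IsPullback.of_bot ?_ ?_ A.sqt)
    · rw [hkX₁, hkU₂]
      exact B.sqt.paste_vert hUU'
    · rw [← Functor.map_comp, ← Functor.map_comp, (yon S).map_injective hkX₂]
  -- the map of the pushouts
  have hA : A.i ≫ A.a = A.j ≫ A.b := Over.OverMorphism.ext A.po.w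
  have hw : B.i.left ≫ (kX ≫ A.a).left = B.j.left ≫ (kY ≫ A.b).left := by
    rw [← Over.comp_left, ← Over.comp_left, ← Category.assoc, sqX.w, ← Category.assoc, sqY.w,
      Category.assoc, Category.assoc, hA]
  let k : B.V' ⟶ A.V' := Over.homMk (B.po.desc _ _ hw) (B.po.hom_ext
    (by rw [B.po.inl_desc_assoc]; exact (Over.w (kX ≫ A.a)).trans (Over.w B.a).symm)
    (by rw [B.po.inr_desc_assoc]; exact (Over.w (kY ≫ A.b)).trans (Over.w B.b).symm))
  have hka : B.a ≫ k = kX ≫ A.a := Over.OverMorphism.ext (B.po.inl_desc _ _ _)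
  have hkb : B.b ≫ k = kY ≫ A.b := Over.OverMorphism.ext (B.po.inr_desc _ _ _)
  haveI := A.thick.1
  haveI := B.thick.1
  haveI := A.affine
  haveI := B.affine
  have props := mapProps A.po B.po (hcov_of_thick _ _ A.thick) (hcov_of_thick _ _ B.thick) (isPullback_left sqX).flip
    (isPullback_left sqY).flip (congrArg Over.Hom.left hka) (congrArg Over.Hom.left hkb)
  refine ⟨A, B, ⟨⟨kX, kY, k, props, hkX₁.symm, hkY, ?_⟩⟩⟩
  refine SpPush.hom_ext Y'.property (etaleLift_thick B.thick B.po).1 (𝟙 _) (show Flat (𝟙 _) from inferInstance)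
    (fun Q l x e => ?_) (fun Q l y e => ?_)
  · rw [Category.comp_id] at e
    rw [e, Functor.map_comp, Category.assoc, reassoc_of% B.sqa.w,
      show iU'.hom ≫ v'.hom = u'.hom ≫ f'.hom from congrArg InducedCategory.Hom.hom hv₂, ← reassoc_of% hkX₁,
      ← A.sqa.w, Category.assoc, ← Category.assoc ((yon S).map B.a), ← Functor.map_comp, hka, Functor.map_comp,
      Category.assoc]
  · rw [Category.comp_id] at e
    rw [e, Functor.map_comp, Category.assoc, reassoc_of% B.sqb.w,
      show iV.hom ≫ v'.hom = v.hom ≫ t'.hom from congrArg InducedCategory.Hom.hom hv₁, reassoc_of% hkY,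
      ← A.sqb.w, Category.assoc, ← Category.assoc ((yon S).map B.b), ← Functor.map_comp, hkb, Functor.map_comp,
      Category.assoc]

variable {A : Atlas t.hom f.hom f'.hom t'.hom} {B : Atlas uU'.hom uV.hom iU'.hom iV.hom}

theorem isPullback_of_piece {W Z W₁ Z₁ : Sp S} {PW PZ QW QZ : Over S} {m : W ⟶ Z} {i : W ⟶ W₁} {g : Z ⟶ Z₁}
    {m' : W₁ ⟶ Z₁} {b : PW ⟶ QW} {k : PW ⟶ PZ} {k' : QW ⟶ QZ} {bZ : PZ ⟶ QZ}
    {p : (yon S).obj PW ⟶ W} {q : (yon S).obj QW ⟶ W₁} {r : (yon S).obj PZ ⟶ Z} {r' : (yon S).obj QZ ⟶ Z₁}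
    (hqe : RepWith @Etale q) (hqs : RepWith @Surjective q)
    (sW : IsPullback ((yon S).map b) p q i) (sZ : IsPullback ((yon S).map bZ) r r' g)
    (sk : IsPullback b k k' bZ) (hp : p ≫ m = (yon S).map k ≫ r) (hq : q ≫ m' = (yon S).map k' ≫ r')
    (w : i ≫ m' = m ≫ g) : IsPullback i m m' g := by
  let c := pullback.lift i m w
  have hc₁ : c ≫ pullback.fst m' g = i := pullback.lift_fst _ _ _
  have hc₂ : c ≫ pullback.snd m' g = m := pullback.lift_snd _ _ _
  have big : IsPullback ((yon S).map b) (p ≫ c) q (pullback.fst m' g) := by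
    refine IsPullback.of_bot ?_ ?_ (IsPullback.of_hasPullback m' g)
    · rw [Category.assoc, hc₂, hp, hq]
      exact (sk.map (yon S)).paste_vert sZ
    · rw [sW.w, Category.assoc, hc₁]
  haveI : IsIso c := isIso_of_isPullback_cover (repWith_of_isPullback big hqe) (repWith_of_isPullback big hqs)
    (IsPullback.of_right (h₁₂ := (yon S).map b) (v₁₃ := q) (h₂₂ := pullback.fst m' g)
      (by rw [Category.id_comp, hc₁]; exact sW) (Category.id_comp _) big)
  exact IsPullback.of_iso_pullback ⟨w⟩ (asIso c) hc₁ hc₂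

theorem Charts.isPullback_inl (c : Charts A B v u' v') (hv₁ : iV ≫ v' = v ≫ t') :
    IsPullback iV.hom v.hom v'.hom t'.hom :=
  isPullback_of_piece B.etale B.surjective B.sqb A.sqb
    (IsPullback.of_map (Over.forget S) (Over.OverMorphism.ext c.props.sqb.w) c.props.sqb) c.wY c.w
    (congrArg InducedCategory.Hom.hom hv₁)

theorem Charts.isPullback_inr (c : Charts A B v u' v') (hv₂ : iU' ≫ v' = u' ≫ f') :
    IsPullback iU'.hom u'.hom v'.hom f'.hom :=
  isPullback_of_piece B.etale B.surjective B.sqa A.sqa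
    (IsPullback.of_map (Over.forget S) (Over.OverMorphism.ext c.props.sqa.w) c.props.sqa) c.wX c.w
    (congrArg InducedCategory.Hom.hom hv₂)

theorem Charts.locP_of_pieces (c : Charts A B v u' v') {P : MorphismProperty Scheme.{u}} (hP : EtLocal P)
    (hk : P c.kX.left → P c.kY.left → P c.k.left) (hv : LocP P v.hom) (hu : LocP P u'.hom) : LocP P v'.hom :=
  locP_of_one_chart hP c.k B.etale B.surjective A.etale c.w
    (hk (hu B.e' A.e' c.kX (repWith_of_isPullback B.sqa B.etale) (repWith_of_isPullback A.sqa A.etale) c.wX)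
      (hv B.p A.p c.kY (repWith_of_isPullback B.sqb B.etale) (repWith_of_isPullback A.sqb A.etale) c.wY))

theorem Charts.locP_pieces (c : Charts A B v u' v') {P : MorphismProperty Scheme.{u}} (hP : EtLocal P)
    (h : LocP P v'.hom) : LocP P v.hom ∧ LocP P u'.hom := by
  haveI := hP.baseChange
  have hk := h B.q A.q c.k B.etale A.etale c.w
  exact ⟨locP_of_one_chart hP c.kY (repWith_of_isPullback B.sqb B.etale) (repWith_of_isPullback B.sqb B.surjective)
      (repWith_of_isPullback A.sqb A.etale) c.wY (P.of_isPullback c.props.sqb hk),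
    locP_of_one_chart hP c.kX (repWith_of_isPullback B.sqa B.etale) (repWith_of_isPullback B.sqa B.surjective)
      (repWith_of_isPullback A.sqa A.etale) c.wX (P.of_isPullback c.props.sqa hk)⟩

theorem Charts.lft_iff (c : Charts A B v u' v') :
    LocP @LocallyOfFiniteType v'.hom ↔ LocP @LocallyOfFiniteType v.hom ∧ LocP @LocallyOfFiniteType u'.hom :=
  ⟨c.locP_pieces etLocal_lft, fun h => c.locP_of_pieces etLocal_lft c.props.lft h.1 h.2⟩

theorem Charts.flat_iff (c : Charts A B v u' v') :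
    LocP @Flat v'.hom ↔ LocP @Flat v.hom ∧ LocP @Flat u'.hom :=
  ⟨c.locP_pieces etLocal_flat, fun h => c.locP_of_pieces etLocal_flat c.props.flat h.1 h.2⟩

theorem Charts.etale_iff (c : Charts A B v u' v') :
    IsEtaleMor v'.hom ↔ IsEtaleMor v.hom ∧ IsEtaleMor u'.hom := by
  rw [isEtaleMor_iff_locP_etale Y'.property, isEtaleMor_iff_locP_etale Y.property,
    isEtaleMor_iff_locP_etale X'.property]
  exact ⟨c.locP_pieces etLocal_etale, fun h => c.locP_of_pieces etLocal_etale c.props.etale h.1 h.2⟩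

theorem Charts.flat_lfp_iff (c : Charts A B v u' v') :
    (LocP @Flat v'.hom ∧ LocP @LocallyOfFinitePresentation v'.hom) ↔
      (LocP @Flat v.hom ∧ LocP @LocallyOfFinitePresentation v.hom) ∧
        (LocP @Flat u'.hom ∧ LocP @LocallyOfFinitePresentation u'.hom) := by
  constructor
  · rintro ⟨h1, h2⟩
    exact ⟨⟨(c.locP_pieces etLocal_flat h1).1, (c.locP_pieces etLocal_lfp h2).1⟩,
      (c.locP_pieces etLocal_flat h1).2, (c.locP_pieces etLocal_lfp h2).2⟩
  · rintro ⟨⟨h1, h2⟩, h3, h4⟩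
    refine ⟨c.flat_iff.2 ⟨h1, h3⟩, c.locP_of_pieces etLocal_lfp (fun hX hY => ?_) h2 h4⟩
    exact c.props.lfp
      (h3 B.e' A.e' c.kX (repWith_of_isPullback B.sqa B.etale) (repWith_of_isPullback A.sqa A.etale) c.wX)
      (h1 B.p A.p c.kY (repWith_of_isPullback B.sqb B.etale) (repWith_of_isPullback A.sqb A.etale) c.wY) hX hY

theorem Charts.smooth_iff (c : Charts A B v u' v') :
    LocP @Smooth v'.hom ↔ LocP @Smooth v.hom ∧ LocP @Smooth u'.hom := by
  haveI := A.affine
  refine ⟨c.locP_pieces etLocal_smooth, fun h => c.locP_of_pieces etLocal_smooth (fun hX hY => ?_) h.1 h.2⟩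
  exact smooth_of_mapProps (surjective_inl A.po A.thick) c.props

end Groth.Agent.H12AlgSp.ThickPush
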