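import Groth.Agent.H12AlgSp.ThickPush.Map
import Groth.Agent.H12AlgSp.Presentation

/-!
Pinching an etale equivalence relation along a thickening gives an etale equivalence relation.
-/

set_option autoImplicit false
set_option backward.isDefEq.respectTransparency false
set_option linter.style.haveILetI false

universe u

open CategoryTheory CategoryTheory.Limits AlgebraicGeometry Opposite
open AlgSp Groth.Agent.H7Flat

namespace Groth.Agent.H12AlgSp.ThickPush

variable {S : Scheme.{u}}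

/-- Adapted pairs of a thickening pinching. -/
theorem hcov_of_thick {Z X Y : Scheme.{u}} (i : Z ⟶ X) (j : Z ⟶ Y) (hi : MoreMor.IsThickening i) [IsAffineHom j] :
    ∀ y : Y, ∃ π : AP i j, y ∈ π.V :=
  haveI : IsClosedImmersion i := hi.1
  SpPush.exists_pair_thickening i j hi.2.surj

/-- A formally unramified map which is injective on the fields points is a monomorphism. -/
theorem mono_of_unramified_of_thick {R₀ R C : Scheme.{u}} (φ : R ⟶ C) [FormallyUnramified φ]
    [LocallyOfFiniteType φ] (b : R₀ ⟶ R) (hb : MoreMor.IsThickening b) (hm : Mono (b ≫ φ)) : Mono φ := by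
  haveI : IsClosedImmersion b := hb.1
  haveI : Surjective b := hb.2
  have : Surjective (pullback.diagonal φ) := ⟨fun z => by
    let K := (pullback φ φ).residueField z
    let γ := (pullback φ φ).fromSpecResidueField z
    have lift : ∀ r : Spec K ⟶ R, ∃ r₀, r₀ ≫ b = r := fun r => by
      haveI : IsReduced (Spec K) := inferInstance
      haveI := AlgebraicGeometry.isIso_of_isClosedImmersion_of_surjective (pullback.snd b r)
      exact ⟨inv (pullback.snd b r) ≫ pullback.fst b r, by
        rw [Category.assoc, pullback.condition, IsIso.inv_hom_id_assoc]⟩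
    obtain ⟨x, hx⟩ := lift (γ ≫ pullback.fst φ φ)
    obtain ⟨y, hy⟩ := lift (γ ≫ pullback.snd φ φ)
    have hxy : x = y := by
      rw [← cancel_mono (b ≫ φ), ← Category.assoc, hx, ← Category.assoc, hy, Category.assoc,
        pullback.condition, Category.assoc]
    have hγ : γ = (x ≫ b) ≫ pullback.diagonal φ := by
      apply pullback.hom_ext
      · simp [hx]
      · simp [hxy, hy]
    obtain ⟨w⟩ : Nonempty (Spec K) := inferInstance
    refine ⟨(x ≫ b) w, ?_⟩
    rw [← Scheme.Hom.comp_apply, ← hγ]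
    exact Scheme.fromSpecResidueField_apply _ _⟩
  haveI : IsIso (pullback.diagonal φ) :=
    (isIso_iff_isOpenImmersion_and_surjective _).2 ⟨inferInstance, this⟩
  refine ⟨fun {W} x y e => ?_⟩
  have h1 : pullback.fst φ φ = pullback.snd φ φ := by
    rw [← cancel_epi (pullback.diagonal φ), pullback.diagonal_fst, pullback.diagonal_snd]
  simpa using congrArg (pullback.lift x y e ≫ ·) h1

/-- The data of a pinched relation. -/
structure RelInput where
  U : Over S
  U' : Over S
  V : Over S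
  V' : Over S
  i : U ⟶ U'
  j : U ⟶ V
  a : U' ⟶ V'
  b : V ⟶ V'
  RU : Over S
  RU' : Over S
  R : Over S
  R' : Over S
  iR : RU ⟶ RU'
  jR : RU ⟶ R
  aR : RU' ⟶ R'
  bR : R ⟶ R'
  tU : RU ⟶ U
  sU : RU ⟶ U
  tU' : RU' ⟶ U'
  sU' : RU' ⟶ U'
  t : R ⟶ V
  s : R ⟶ V
  t' : R' ⟶ V'
  s' : R' ⟶ V'
  thick : MoreMor.IsThickening i.left
  affine : IsAffineHom j.left
  thickR : MoreMor.IsThickening iR.left
  affineR : IsAffineHom jR.left
  po : IsPushout i.left j.left a.left b.left
  poR : IsPushout iR.left jR.left aR.left bR.left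
  hat : aR ≫ t' = tU' ≫ a
  has : aR ≫ s' = sU' ≫ a
  hbt : bR ≫ t' = t ≫ b
  hbs : bR ≫ s' = s ≫ b
  hti : IsPullback iR tU tU' i
  hsi : IsPullback iR sU sU' i
  htj : IsPullback jR tU t j
  hsj : IsPullback jR sU s j
  relU : IsEtaleEqvRel sU' tU'
  rel : IsEtaleEqvRel s t

namespace RelInput

variable (D : RelInput (S := S))

theorem props_t : MapProps D.tU'.left D.t.left D.a.left D.b.left D.aR.left D.bR.left D.t'.left :=
  haveI := D.thick.1
  haveI := D.thickR.1
  haveI := D.affine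
  haveI := D.affineR
  mapProps D.po D.poR (hcov_of_thick _ _ D.thick) (hcov_of_thick _ _ D.thickR) (isPullback_left D.hti).flip
    (isPullback_left D.htj).flip (congrArg Over.Hom.left D.hat) (congrArg Over.Hom.left D.hbt)

theorem props_s : MapProps D.sU'.left D.s.left D.a.left D.b.left D.aR.left D.bR.left D.s'.left :=
  haveI := D.thick.1
  haveI := D.thickR.1
  haveI := D.affine
  haveI := D.affineR
  mapProps D.po D.poR (hcov_of_thick _ _ D.thick) (hcov_of_thick _ _ D.thickR) (isPullback_left D.hsi).flip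
    (isPullback_left D.hsj).flip (congrArg Over.Hom.left D.has) (congrArg Over.Hom.left D.hbs)

theorem isEtaleEqvRel : IsEtaleEqvRel D.s' D.t' := by
  haveI := D.thick.1
  haveI := D.thickR.1
  haveI := D.affine
  haveI := D.affineR
  haveI hte : Etale D.t'.left := D.props_t.etale D.relU.etale_right D.rel.etale_right
  haveI hse : Etale D.s'.left := D.props_s.etale D.relU.etale_left D.rel.etale_left
  have hbR : MoreMor.IsThickening D.bR.left := surjective_inl D.poR D.thickR
  haveI : IsClosedImmersion D.b.left := (surjective_inl D.po D.thick).1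
  haveI : Mono D.b.left := inferInstance
  let φ : D.R'.left ⟶ pullback D.V'.hom D.V'.hom :=
    pullback.lift D.t'.left D.s'.left (by rw [Over.w, Over.w])
  haveI : FormallyUnramified (φ ≫ pullback.fst _ _) := by rw [pullback.lift_fst]; infer_instance
  haveI : LocallyOfFiniteType (φ ≫ pullback.fst _ _) := by rw [pullback.lift_fst]; infer_instance
  haveI : FormallyUnramified φ := FormallyUnramified.of_comp φ (pullback.fst D.V'.hom D.V'.hom)
  haveI : LocallyOfFiniteType φ := locallyOfFiniteType_of_comp φ (pullback.fst D.V'.hom D.V'.hom)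
  haveI : Mono φ := mono_of_unramified_of_thick φ D.bR.left hbR ⟨fun {W} x y e => by
    have e1 := e =≫ pullback.fst _ _
    have e2 := e =≫ pullback.snd _ _
    simp only [φ, Category.assoc, pullback.lift_fst, pullback.lift_snd, ← Over.comp_left, D.hbt, D.hbs] at e1 e2
    simp only [Over.comp_left, ← Category.assoc, cancel_mono] at e1 e2
    let xo : Over.mk (x ≫ D.R.hom) ⟶ D.R := Over.homMk x rfl
    let yo : Over.mk (x ≫ D.R.hom) ⟶ D.R := Over.homMk y (by
      change y ≫ D.R.hom = x ≫ D.R.hom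
      rw [← Over.w D.t, ← Category.assoc, ← Category.assoc, e1])
    exact congrArg Over.Hom.left (D.rel.injective _ xo yo (Over.OverMorphism.ext e1) (Over.OverMorphism.ext e2))⟩
  have hinj : ∀ (T : Over S) (r r' : T ⟶ D.R'), r ≫ D.t' = r' ≫ D.t' → r ≫ D.s' = r' ≫ D.s' → r = r' := by
    intro T r r' h₁ h₂
    refine Over.OverMorphism.ext ?_
    rw [← cancel_mono φ]
    apply pullback.hom_ext
    · simpa [φ] using congrArg Over.Hom.left h₁
    · simpa [φ] using congrArg Over.Hom.left h₂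
  -- reflexivity
  obtain ⟨δ, hδt, hδs⟩ : ∃ δ : D.V' ⟶ D.R', δ ≫ D.t' = 𝟙 _ ∧ δ ≫ D.s' = 𝟙 _ := by
    obtain ⟨x, hx₁, hx₂⟩ := (D.relU.equivalence D.U').refl (𝟙 _)
    obtain ⟨y, hy₁, hy₂⟩ := (D.rel.equivalence D.V).refl (𝟙 _)
    have w : D.i.left ≫ (x ≫ D.aR).left = D.j.left ≫ (y ≫ D.bR).left := by
      rw [← Over.comp_left, ← Over.comp_left]
      refine congrArg Over.Hom.left (hinj _ _ _ ?_ ?_)
      · simp only [Category.assoc, D.hat, D.hbt]
        rw [reassoc_of% hx₁, reassoc_of% hy₁]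
        exact Over.OverMorphism.ext D.po.w
      · simp only [Category.assoc, D.has, D.hbs]
        rw [reassoc_of% hx₂, reassoc_of% hy₂]
        exact Over.OverMorphism.ext D.po.w
    have k1 : D.po.desc _ _ w ≫ D.t'.left = 𝟙 _ := D.po.hom_ext
      (by rw [D.po.inl_desc_assoc, ← Over.comp_left, Category.assoc, D.hat, reassoc_of% hx₁, Category.comp_id])
      (by rw [D.po.inr_desc_assoc, ← Over.comp_left, Category.assoc, D.hbt, reassoc_of% hy₁, Category.comp_id])
    have k2 : D.po.desc _ _ w ≫ D.s'.left = 𝟙 _ := D.po.hom_ext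
      (by rw [D.po.inl_desc_assoc, ← Over.comp_left, Category.assoc, D.has, reassoc_of% hx₂, Category.comp_id])
      (by rw [D.po.inr_desc_assoc, ← Over.comp_left, Category.assoc, D.hbs, reassoc_of% hy₂, Category.comp_id])
    exact ⟨Over.homMk (D.po.desc _ _ w) (by rw [← Over.w D.t', ← Category.assoc, k1, Category.id_comp]),
      Over.OverMorphism.ext k1, Over.OverMorphism.ext k2⟩
  -- symmetry
  obtain ⟨σ, hσt, hσs⟩ : ∃ σ : D.R' ⟶ D.R', σ ≫ D.t' = D.s' ∧ σ ≫ D.s' = D.t' := by
    obtain ⟨x, hx₁, hx₂⟩ := (D.relU.equivalence D.RU').symm ⟨𝟙 _, Category.id_comp D.tU', Category.id_comp D.sU'⟩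
    obtain ⟨y, hy₁, hy₂⟩ := (D.rel.equivalence D.R).symm ⟨𝟙 _, Category.id_comp D.t, Category.id_comp D.s⟩
    have w : D.iR.left ≫ (x ≫ D.aR).left = D.jR.left ≫ (y ≫ D.bR).left := by
      rw [← Over.comp_left, ← Over.comp_left]
      refine congrArg Over.Hom.left (hinj _ _ _ ?_ ?_)
      · simp only [Category.assoc, D.hat, D.hbt]
        rw [reassoc_of% hx₁, reassoc_of% hy₁, ← D.has, ← D.hbs, ← Category.assoc, ← Category.assoc]
        exact congrArg (· ≫ D.s') (Over.OverMorphism.ext D.poR.w)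
      · simp only [Category.assoc, D.has, D.hbs]
        rw [reassoc_of% hx₂, reassoc_of% hy₂, ← D.hat, ← D.hbt, ← Category.assoc, ← Category.assoc]
        exact congrArg (· ≫ D.t') (Over.OverMorphism.ext D.poR.w)
    have k1 : D.poR.desc _ _ w ≫ D.t'.left = D.s'.left := D.poR.hom_ext
      (by rw [D.poR.inl_desc_assoc, ← Over.comp_left, Category.assoc, D.hat, reassoc_of% hx₁, ← D.has]; rfl)
      (by rw [D.poR.inr_desc_assoc, ← Over.comp_left, Category.assoc, D.hbt, reassoc_of% hy₁, ← D.hbs]; rfl)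
    have k2 : D.poR.desc _ _ w ≫ D.s'.left = D.t'.left := D.poR.hom_ext
      (by rw [D.poR.inl_desc_assoc, ← Over.comp_left, Category.assoc, D.has, reassoc_of% hx₂, ← D.hat]; rfl)
      (by rw [D.poR.inr_desc_assoc, ← Over.comp_left, Category.assoc, D.hbs, reassoc_of% hy₂, ← D.hbt]; rfl)
    exact ⟨Over.homMk (D.poR.desc _ _ w) (by rw [← Over.w D.t', ← Category.assoc, k1, Over.w, Over.w]),
      Over.OverMorphism.ext k1, Over.OverMorphism.ext k2⟩
  -- transitivity
  let P := pullback D.s' D.t'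
  obtain ⟨μ, hμt, hμs⟩ : ∃ μ : P ⟶ D.R', μ ≫ D.t' = pullback.fst _ _ ≫ D.t' ∧
      μ ≫ D.s' = pullback.snd _ _ ≫ D.s' := by
    let p₁ : P ⟶ D.R' := pullback.fst D.s' D.t'
    let p₂ : P ⟶ D.R' := pullback.snd D.s' D.t'
    have hw : p₁ ≫ D.s' = p₂ ≫ D.t' := pullback.condition
    haveI : Etale p₁.left := MorphismProperty.of_isPullback (P := @Etale)
      (isPullback_left (IsPullback.of_hasPullback D.s' D.t')).flip hte
    obtain ⟨Zr, uZ, vZ, hZ⟩ :=
      SpPush.flatStable_of_cov D.iR.left D.jR.left D.poR (hcov_of_thick _ _ D.thickR) P.left p₁.left inferInstance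
    have part : ∀ {A Vv : Over S} (aA : A ⟶ D.R') (tA sA : A ⟶ Vv) (bV : Vv ⟶ D.V'),
        IsPullback aA tA D.t' bV → aA ≫ D.s' = sA ≫ bV →
        (∀ T : Over S, ∀ (x y : T ⟶ A), x ≫ sA = y ≫ tA → ∃ c : T ⟶ A, c ≫ tA = x ≫ tA ∧ c ≫ sA = y ≫ sA) →
        ∃ c : pullback aA.left p₁.left ⟶ D.R'.left, c ≫ D.t'.left = pullback.snd _ _ ≫ (p₁ ≫ D.t').left ∧
          c ≫ D.s'.left = pullback.snd _ _ ≫ (p₂ ≫ D.s').left := by
      intro A Vv aA tA sA bV sqt hs htr
      let T : Over S := Over.mk (pullback.snd aA.left p₁.left ≫ P.hom)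
      let q : T ⟶ P := Over.homMk (pullback.snd _ _) rfl
      let x : T ⟶ A := Over.homMk (pullback.fst _ _) (by
        change pullback.fst _ _ ≫ A.hom = pullback.snd _ _ ≫ P.hom
        rw [← Over.w aA, ← Category.assoc, pullback.condition, Category.assoc, Over.w p₁])
      have hq : x ≫ aA = q ≫ p₁ := Over.OverMorphism.ext pullback.condition
      obtain ⟨y, hy₁, hy₂⟩ := sqt.exists_lift (q ≫ p₂) (x ≫ sA) (by
        rw [Category.assoc, ← hw, ← Category.assoc, ← hq, Category.assoc, hs, Category.assoc])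
      obtain ⟨c, hc₁, hc₂⟩ := htr T x y hy₂.symm
      refine ⟨(c ≫ aA).left, ?_, ?_⟩
      · rw [← Over.comp_left, Category.assoc, sqt.w, reassoc_of% hc₁, ← sqt.w, ← Category.assoc, hq,
          Category.assoc]
        rfl
      · rw [← Over.comp_left, Category.assoc, hs, reassoc_of% hc₂, ← hs, ← Category.assoc, hy₁, Category.assoc]
        rfl
    have trans_of : ∀ {A Vv : Over S} {sA tA : A ⟶ Vv}, IsEqvRel sA tA → ∀ (T : Over S) (x y : T ⟶ A),
        x ≫ sA = y ≫ tA → ∃ c : T ⟶ A, c ≫ tA = x ≫ tA ∧ c ≫ sA = y ≫ sA := fun {A Vv sA tA} h T x y e =>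
      (h.equivalence T).trans ⟨x, rfl, rfl⟩ ⟨y, e.symm, rfl⟩
    obtain ⟨c₁, hc₁t, hc₁s⟩ := part D.aR D.tU' D.sU' D.a
      (IsPullback.of_map (Over.forget S) D.hat D.props_t.sqa) D.has (trans_of D.relU.toIsEqvRel)
    obtain ⟨c₂, hc₂t, hc₂s⟩ := part D.bR D.t D.s D.b
      (IsPullback.of_map (Over.forget S) D.hbt D.props_t.sqb) D.hbs (trans_of D.rel.toIsEqvRel)
    have w : uZ ≫ c₁ = vZ ≫ c₂ := by
      rw [← cancel_mono φ]
      apply pullback.hom_ext
      · simp only [φ, Category.assoc, pullback.lift_fst, hc₁t, hc₂t]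
        rw [← Category.assoc, hZ.w, Category.assoc]
      · simp only [φ, Category.assoc, pullback.lift_snd, hc₁s, hc₂s]
        rw [← Category.assoc, hZ.w, Category.assoc]
    have k1 : hZ.desc _ _ w ≫ D.t'.left = (p₁ ≫ D.t').left :=
      hZ.hom_ext (by rw [hZ.inl_desc_assoc, hc₁t]) (by rw [hZ.inr_desc_assoc, hc₂t])
    have k2 : hZ.desc _ _ w ≫ D.s'.left = (p₂ ≫ D.s').left :=
      hZ.hom_ext (by rw [hZ.inl_desc_assoc, hc₁s]) (by rw [hZ.inr_desc_assoc, hc₂s])
    exact ⟨Over.homMk (hZ.desc _ _ w) (by rw [← Over.w D.t', ← Category.assoc, k1, Over.w]),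
      Over.OverMorphism.ext k1, Over.OverMorphism.ext k2⟩
  refine { injective := hinj, equivalence := fun T => ⟨fun x => ?_, ?_, ?_⟩, etale_left := hse, etale_right := hte }
  · exact ⟨x ≫ δ, by rw [Category.assoc, hδt, Category.comp_id], by rw [Category.assoc, hδs, Category.comp_id]⟩
  · rintro x y ⟨r, rfl, rfl⟩
    exact ⟨r ≫ σ, by rw [Category.assoc, hσt], by rw [Category.assoc, hσs]⟩
  · rintro x y z ⟨r, rfl, hry⟩ ⟨r', hr'y, rfl⟩
    exact ⟨pullback.lift r r' (hry.trans hr'y.symm) ≫ μ, by rw [Category.assoc, hμt, pullback.lift_fst_assoc],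
      by rw [Category.assoc, hμs, pullback.lift_snd_assoc]⟩

end RelInput

end Groth.Agent.H12AlgSp.ThickPush
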